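import Mathlib.CategoryTheory.Abelian.Refinements
import Mathlib.Algebra.Homology.ShortComplex.ShortExact
import Mathlib.CategoryTheory.Subobject.Limits
import Mathlib.CategoryTheory.Subobject.FactorThru

/-!
# Completing a 3 × 3 diagram: diagram chases up to refinements
-/

set_option autoImplicit false
universe v u

open CategoryTheory CategoryTheory.Limits

namespace K824.NineDiag

variable {C : Type u} [Category.{v} C] [Abelian C]

/-- Membership in `map ι (pullback pr P)`. -/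
lemma factors_map_pullback_iff {Z K B : C} (ι : Z ⟶ B) [Mono ι] (pr : Z ⟶ K) (P : Subobject K)
    {T : C} (x : T ⟶ B) :
    ((Subobject.map ι).obj ((Subobject.pullback pr).obj P)).Factors x ↔
      ∃ z : T ⟶ Z, z ≫ ι = x ∧ P.Factors (z ≫ pr) := by
  have h0 : (Subobject.map ι).obj ((Subobject.pullback pr).obj P) =
      Subobject.mk (((Subobject.pullback pr).obj P).arrow ≫ ι) := by
    rw [← Subobject.map_mk, Subobject.mk_arrow]
  rw [h0, Subobject.mk_factors_iff]
  constructor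
  · rintro ⟨y, hy⟩
    obtain ⟨y, rfl⟩ : ∃ y' : T ⟶ ((Subobject.pullback pr).obj P : C), y' = y := ⟨y, rfl⟩
    change y ≫ ((Subobject.pullback pr).obj P).arrow ≫ ι = x at hy
    refine ⟨y ≫ ((Subobject.pullback pr).obj P).arrow, by rw [Category.assoc, hy], ?_⟩
    rw [Category.assoc, ← (Subobject.isPullback pr P).w, ← Category.assoc]
    exact Subobject.factors_comp_arrow _
  · rintro ⟨z, rfl, hz⟩
    refine ⟨(Subobject.isPullback pr P).lift (P.factorThru _ hz) z (by simp), ?_⟩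
    change _ ≫ ((Subobject.pullback pr).obj P).arrow ≫ ι = _
    rw [IsPullback.lift_snd_assoc]

/-- Factoring through the image of a monomorphism. -/
lemma factors_imageSubobject_iff {X Y T : C} (s : X ⟶ Y) [Mono s] (x : T ⟶ Y) :
    (imageSubobject s).Factors x ↔ ∃ t : T ⟶ X, t ≫ s = x := by
  rw [imageSubobject_mono, Subobject.mk_factors_iff]
  rfl

/-- Factoring through a subobject can be checked after an epimorphism. -/
lemma factors_of_epi {Y T T' : C} (P : Subobject Y) (π : T' ⟶ T) [Epi π] (x : T ⟶ Y)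
    (h : P.Factors (π ≫ x)) : P.Factors x := by
  have h1 : x ≫ cokernel.π P.arrow = 0 := by
    rw [← cancel_epi π, ← Category.assoc, ← Subobject.factorThru_arrow P _ h, Category.assoc,
      cokernel.condition]
    simp
  have hex : (ShortComplex.mk P.arrow (cokernel.π P.arrow) (by simp)).Exact :=
    ShortComplex.exact_of_g_is_cokernel _ (cokernelIsCokernel _)
  have hl := hex.lift_f x h1
  dsimp at hl
  rw [← hl]
  exact Subobject.factors_comp_arrow _

variable {A₁ A₂ A₃ B₂ C₁ C₂ C₃ Z K : C}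

section

variable (i₁ : A₁ ⟶ A₂) (p₁ : A₂ ⟶ A₃) (wA : i₁ ≫ p₁ = 0) (hA : (ShortComplex.mk i₁ p₁ wA).ShortExact)
    (i₂ : A₂ ⟶ B₂) (π₂ : B₂ ⟶ C₂) (wB : i₂ ≫ π₂ = 0) (hB : (ShortComplex.mk i₂ π₂ wB).ShortExact)
    (j : C₁ ⟶ C₂) (q : C₂ ⟶ C₃) (wC : j ≫ q = 0) (hC : (ShortComplex.mk j q wC).ShortExact)
    (ι : Z ⟶ B₂) (pr : Z ⟶ K) (tc : A₁ ⟶ Z) (htc : tc ≫ ι = i₁ ≫ i₂)
    (hι0 : ι ≫ π₂ ≫ q = 0)
    (hlift : ∀ {T : C} (z : T ⟶ B₂), z ≫ π₂ ≫ q = 0 → ∃ z' : T ⟶ Z, z' ≫ ι = z)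
    (htcpr : tc ≫ pr = 0)
    (hex : ∀ {T : C} (z : T ⟶ Z), z ≫ pr = 0 →
      ∃ (T' : C) (π : T' ⟶ T) (_ : Epi π) (x : T' ⟶ A₁), π ≫ z = x ≫ tc)
    (f : A₃ ⟶ K) (g : K ⟶ C₁)
    (l : A₂ ⟶ Z) (hl : l ≫ ι = i₂) (hf : p₁ ≫ f = l ≫ pr) (hg : pr ≫ g ≫ j = ι ≫ π₂)

include hA hB hC htc hlift hex hl hf hg in
theorem shortExact [Mono ι] [Epi pr] : ∃ wfg : f ≫ g = 0, (ShortComplex.mk f g wfg).ShortExact := by
  have : Mono i₁ := hA.mono_f
  have : Epi p₁ := hA.epi_g
  have : Mono i₂ := hB.mono_f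
  have : Epi π₂ := hB.epi_g
  have : Mono j := hC.mono_f
  have : Epi q := hC.epi_g
  have wfg : f ≫ g = 0 := by
    rw [← cancel_epi p₁, ← cancel_mono j, reassoc_of% hf, Category.assoc, Category.assoc, hg,
      reassoc_of% hl, wB]
    simp
  have hmono : Mono f := by
    rw [Preadditive.mono_iff_cancel_zero]
    intro T x hx
    obtain ⟨T', π, hπ, y, hy⟩ := surjective_up_to_refinements_of_epi p₁ x
    have h1 : (y ≫ l) ≫ pr = 0 := by
      rw [Category.assoc, ← hf, ← reassoc_of% hy, hx, comp_zero]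
    obtain ⟨T'', π', hπ', z, hz⟩ := hex _ h1
    have hz' : π' ≫ y = z ≫ i₁ := by
      have := hz =≫ ι
      simp only [Category.assoc, hl, htc] at this
      rw [← cancel_mono i₂]
      simpa using this
    rw [← cancel_epi π, ← cancel_epi π', hy, reassoc_of% hz', wA]
    simp
  have hepi : Epi g := by
    rw [epi_iff_surjective_up_to_refinements]
    intro T y
    obtain ⟨T', π, hπ, b, hb⟩ := surjective_up_to_refinements_of_epi π₂ (y ≫ j)
    obtain ⟨z, hz⟩ := hlift b (by rw [← reassoc_of% hb, wC]; simp)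
    refine ⟨T', π, hπ, z ≫ pr, ?_⟩
    rw [← cancel_mono j]
    simp only [Category.assoc]
    rw [hg, reassoc_of% hz]
    exact hb
  refine ⟨wfg, { exact := ?_, mono_f := hmono, epi_g := hepi }⟩
  rw [ShortComplex.exact_iff_exact_up_to_refinements]
  intro T x hx
  dsimp at x hx
  obtain ⟨T', π, hπ, z, hz⟩ := surjective_up_to_refinements_of_epi pr x
  have h1 : (z ≫ ι) ≫ π₂ = 0 := by
    rw [Category.assoc, ← hg, ← reassoc_of% hz, reassoc_of% hx]
    simp
  obtain ⟨T'', π', hπ', a, ha⟩ := hB.exact.exact_up_to_refinements _ h1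
  dsimp at a ha
  refine ⟨T'', π' ≫ π, epi_comp _ _, a ≫ p₁, ?_⟩
  dsimp
  rw [Category.assoc, hz, Category.assoc, hf]
  simp only [← Category.assoc]
  congr 1
  rw [← cancel_mono ι]
  simp [ha, hl]

include hA hB hC in
/-- In a 3 × 3 diagram with exact columns and exact first and second rows, the last row is exact.
 -/
theorem lastRow {B₁ : C} (b : B₁ ⟶ B₂) [Mono b] (a : A₁ ⟶ B₁) (c : B₁ ⟶ C₁) (wac : a ≫ c = 0)
    (hab : a ≫ b = i₁ ≫ i₂) (hcj : c ≫ j = b ≫ π₂) (hac : (ShortComplex.mk a c wac).ShortExact) :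
    ∃ (a' : A₃ ⟶ cokernel b) (c' : cokernel b ⟶ C₃) (wac' : a' ≫ c' = 0),
      p₁ ≫ a' = i₂ ≫ cokernel.π b ∧ cokernel.π b ≫ c' = π₂ ≫ q ∧
      (ShortComplex.mk a' c' wac').ShortExact := by
  have : Mono i₁ := hA.mono_f
  have : Epi p₁ := hA.epi_g
  have : Mono i₂ := hB.mono_f
  have : Epi π₂ := hB.epi_g
  have : Mono j := hC.mono_f
  have : Epi q := hC.epi_g
  have : Epi c := hac.epi_g
  have hp : ∃ a' : A₃ ⟶ cokernel b, p₁ ≫ a' = i₂ ≫ cokernel.π b :=
    ⟨hA.exact.desc (i₂ ≫ cokernel.π b) (by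
      change i₁ ≫ i₂ ≫ cokernel.π b = 0
      rw [← Category.assoc, ← hab]; simp), hA.exact.g_desc _ _⟩
  obtain ⟨a', ha'⟩ := hp
  have hc0 : b ≫ π₂ ≫ q = 0 := by
    rw [← reassoc_of% hcj, wC]; simp
  obtain ⟨c', hc'⟩ : ∃ c' : cokernel b ⟶ C₃, cokernel.π b ≫ c' = π₂ ≫ q :=
    ⟨cokernel.desc _ _ hc0, cokernel.π_desc _ _ _⟩
  have wac' : a' ≫ c' = 0 := by
    rw [← cancel_epi p₁, reassoc_of% ha', hc', reassoc_of% wB]
    simp
  have hexb : (ShortComplex.mk b (cokernel.π b) (by simp)).Exact :=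
    ShortComplex.exact_of_g_is_cokernel _ (cokernelIsCokernel _)
  refine ⟨a', c', wac', ha', hc', ?_⟩
  have hmono : Mono a' := by
    rw [Preadditive.mono_iff_cancel_zero]
    intro T x hx
    obtain ⟨T', π, hπ, y, hy⟩ := surjective_up_to_refinements_of_epi p₁ x
    have h1 : (y ≫ i₂) ≫ cokernel.π b = 0 := by
      rw [Category.assoc, ← ha', ← reassoc_of% hy, hx, comp_zero]
    obtain ⟨T₂, π', hπ', t, ht⟩ := hexb.exact_up_to_refinements _ h1
    dsimp at t ht
    have h2 : t ≫ c = 0 := by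
      rw [← cancel_mono j, Category.assoc, hcj, ← reassoc_of% ht, wB]
      simp
    obtain ⟨T₃, π'', hπ'', z, hz⟩ := hac.exact.exact_up_to_refinements _ h2
    dsimp at z hz
    have h3 : π'' ≫ π' ≫ y = z ≫ i₁ := by
      rw [← cancel_mono i₂]
      simp only [Category.assoc]
      rw [ht, reassoc_of% hz, hab]
    rw [← cancel_epi π, ← cancel_epi π', ← cancel_epi π'', hy, reassoc_of% h3, wA]
    simp
  have hepi : Epi c' := by
    have : Epi (cokernel.π b ≫ c') := by
      rw [hc']; infer_instance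
    exact epi_of_epi (cokernel.π b) c'
  refine { exact := ?_, mono_f := hmono, epi_g := hepi }
  rw [ShortComplex.exact_iff_exact_up_to_refinements]
  intro T x hx
  dsimp at x hx
  obtain ⟨T', π, hπ, y, hy⟩ := surjective_up_to_refinements_of_epi (cokernel.π b) x
  have h1 : (y ≫ π₂) ≫ q = 0 := by
    rw [Category.assoc, ← hc', ← reassoc_of% hy, hx, comp_zero]
  obtain ⟨T₂, π', hπ', t, ht⟩ := hC.exact.exact_up_to_refinements _ h1
  dsimp at t ht
  obtain ⟨T₃, π'', hπ'', u, hu⟩ := surjective_up_to_refinements_of_epi c t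
  have h2 : (π'' ≫ π' ≫ y - u ≫ b) ≫ π₂ = 0 := by
    rw [Preadditive.sub_comp, Category.assoc, Category.assoc, ht, Category.assoc, ← hcj,
      ← reassoc_of% hu]
    simp
  obtain ⟨T₄, π₃, hπ₃, v, hv⟩ := hB.exact.exact_up_to_refinements _ h2
  dsimp at v hv
  refine ⟨T₄, π₃ ≫ π'' ≫ π' ≫ π, inferInstance, v ≫ p₁, ?_⟩
  dsimp
  simp only [Category.assoc]
  rw [hy, ha', ← reassoc_of% hv]
  simp

include hA hB hC htc hlift htcpr hex hg in
theorem sections_bij [Mono ι] [Epi pr] :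
    (∀ B₁ : Subobject B₂,
      (∃ (a : A₁ ⟶ (B₁ : C)) (c : (B₁ : C) ⟶ C₁) (wac : a ≫ c = 0)
         (a' : A₃ ⟶ cokernel B₁.arrow) (c' : cokernel B₁.arrow ⟶ C₃) (wac' : a' ≫ c' = 0),
         a ≫ B₁.arrow = i₁ ≫ i₂ ∧ c ≫ j = B₁.arrow ≫ π₂ ∧ (ShortComplex.mk a c wac).ShortExact ∧
         p₁ ≫ a' = i₂ ≫ cokernel.π B₁.arrow ∧ cokernel.π B₁.arrow ≫ c' = π₂ ≫ q ∧
         (ShortComplex.mk a' c' wac').ShortExact) ↔
      ∃ s : C₁ ⟶ K, s ≫ g = 𝟙 C₁ ∧
        (Subobject.map ι).obj ((Subobject.pullback pr).obj (imageSubobject s)) = B₁) ∧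
    (∀ s s' : C₁ ⟶ K, s ≫ g = 𝟙 C₁ → s' ≫ g = 𝟙 C₁ →
      (Subobject.map ι).obj ((Subobject.pullback pr).obj (imageSubobject s)) =
        (Subobject.map ι).obj ((Subobject.pullback pr).obj (imageSubobject s')) → s = s') := by
  have : Mono i₁ := hA.mono_f
  have : Epi p₁ := hA.epi_g
  have : Mono i₂ := hB.mono_f
  have : Epi π₂ := hB.epi_g
  have : Mono j := hC.mono_f
  have : Epi q := hC.epi_g
  refine ⟨fun B₁ => ⟨?_, ?_⟩, ?_⟩
  · rintro ⟨a, c, wac, -, -, -, hab, hcj, hac, -, -, -⟩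
    have : Epi c := hac.epi_g
    obtain ⟨b, hb⟩ := hlift B₁.arrow (by rw [← reassoc_of% hcj, wC]; simp)
    have habtc : a ≫ b = tc := by
      rw [← cancel_mono ι, Category.assoc, hb, hab, htc]
    have h0 : a ≫ b ≫ pr = 0 := by
      rw [reassoc_of% habtc, htcpr]
    obtain ⟨s, hs⟩ : ∃ s : C₁ ⟶ K, c ≫ s = b ≫ pr :=
      ⟨hac.exact.desc (b ≫ pr) h0, hac.exact.g_desc _ _⟩
    have hsg : s ≫ g = 𝟙 C₁ := by
      rw [← cancel_epi c, ← cancel_mono j, reassoc_of% hs, Category.assoc, Category.assoc, hg,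
        reassoc_of% hb, Category.comp_id, hcj]
    have : Mono s := mono_of_mono_fac hsg
    refine ⟨s, hsg, ?_⟩
    apply le_antisymm
    · apply Subobject.le_of_factors
      have h1 := Subobject.factors_self
        ((Subobject.map ι).obj ((Subobject.pullback pr).obj (imageSubobject s)))
      rw [factors_map_pullback_iff] at h1
      obtain ⟨z, hz, hz'⟩ := h1
      rw [factors_imageSubobject_iff] at hz'
      obtain ⟨t, ht⟩ := hz'
      obtain ⟨T', π, hπ, u, hu⟩ := surjective_up_to_refinements_of_epi c t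
      have h2 : (π ≫ z - u ≫ b) ≫ pr = 0 := by
        rw [Preadditive.sub_comp, Category.assoc, Category.assoc, ← hs, ← reassoc_of% hu, ht]
        simp
      obtain ⟨T₂, π', hπ', x, hx⟩ := hex _ h2
      have h3 : (π' ≫ π) ≫ z = (π' ≫ u + x ≫ a) ≫ b := by
        rw [Preadditive.comp_sub, sub_eq_iff_eq_add] at hx
        rw [Category.assoc, hx, Preadditive.add_comp, Category.assoc, Category.assoc, habtc,
          add_comm]
      apply factors_of_epi B₁ (π' ≫ π)
      rw [← hz, ← Category.assoc, h3, Category.assoc, hb]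
      exact Subobject.factors_comp_arrow _
    · apply Subobject.le_of_factors
      rw [factors_map_pullback_iff]
      refine ⟨b, hb, ?_⟩
      rw [← hs, factors_imageSubobject_iff]
      exact ⟨c, rfl⟩
  · rintro ⟨s, hsg, hsB⟩
    have : Mono s := mono_of_mono_fac hsg
    have hself : ∃ z : (B₁ : C) ⟶ Z, z ≫ ι = B₁.arrow ∧ ∃ t : (B₁ : C) ⟶ C₁, t ≫ s = z ≫ pr := by
      have h1 := Subobject.factors_self B₁
      rw [← hsB] at h1
      rw [factors_map_pullback_iff] at h1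
      obtain ⟨z, hz, hz'⟩ := h1
      rw [factors_imageSubobject_iff] at hz'
      obtain ⟨t, ht⟩ := hz'
      subst hsB
      exact ⟨z, hz, t, ht⟩
    obtain ⟨b, hb, c, hc⟩ := hself
    have hfac : ∀ {T : C} (z : T ⟶ Z) (t : T ⟶ C₁), t ≫ s = z ≫ pr →
        ∃ y : T ⟶ (B₁ : C), y ≫ b = z := by
      intro T z t ht
      have h1 : B₁.Factors (z ≫ ι) := by
        rw [← hsB, factors_map_pullback_iff]
        exact ⟨z, rfl, (factors_imageSubobject_iff s _).2 ⟨t, ht⟩⟩
      refine ⟨B₁.factorThru _ h1, ?_⟩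
      rw [← cancel_mono ι, Category.assoc, hb, Subobject.factorThru_arrow]
    obtain ⟨a, ha⟩ := hfac tc 0 (by rw [htcpr]; simp)
    have hab : a ≫ B₁.arrow = i₁ ≫ i₂ := by
      rw [← hb, reassoc_of% ha, htc]
    have hcj : c ≫ j = B₁.arrow ≫ π₂ := by
      have : c ≫ s ≫ g ≫ j = b ≫ pr ≫ g ≫ j := by rw [reassoc_of% hc]
      rw [reassoc_of% hsg] at this
      rw [this, hg, reassoc_of% hb]
    have wac : a ≫ c = 0 := by
      rw [← cancel_mono s, Category.assoc, hc, reassoc_of% ha, htcpr]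
      simp
    have hac : (ShortComplex.mk a c wac).ShortExact := by
      have hmono : Mono a := by
        have : Mono (a ≫ B₁.arrow) := by
          rw [hab]; infer_instance
        exact mono_of_mono a B₁.arrow
      have hepi : Epi c := by
        rw [epi_iff_surjective_up_to_refinements]
        intro T y
        obtain ⟨T', π, hπ, z, hz⟩ := surjective_up_to_refinements_of_epi pr (y ≫ s)
        obtain ⟨w, hw⟩ := hfac z (π ≫ y) (by rw [Category.assoc, hz])
        refine ⟨T', π, hπ, w, ?_⟩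
        rw [← cancel_mono s, Category.assoc, hz, Category.assoc, hc, reassoc_of% hw]
      refine { exact := ?_, mono_f := hmono, epi_g := hepi }
      rw [ShortComplex.exact_iff_exact_up_to_refinements]
      intro T x hx
      dsimp at x hx
      have h1 : (x ≫ b) ≫ pr = 0 := by
        rw [Category.assoc, ← hc, reassoc_of% hx]
        simp
      obtain ⟨T', π, hπ, y, hy⟩ := hex _ h1
      refine ⟨T', π, hπ, y, ?_⟩
      dsimp
      rw [← cancel_mono B₁.arrow, ← hb]
      simp only [Category.assoc]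
      rw [reassoc_of% hy, reassoc_of% ha]
    obtain ⟨a', c', wac', h1, h2, h3⟩ := lastRow i₁ p₁ wA hA i₂ π₂ wB hB j q wC hC B₁.arrow a c wac
      hab hcj hac
    exact ⟨a, c, wac, a', c', wac', hab, hcj, hac, h1, h2, h3⟩
  · intro s s' hsg hsg' h
    have : Mono s := mono_of_mono_fac hsg
    have : Mono s' := mono_of_mono_fac hsg'
    obtain ⟨T', π, hπ, z, hz⟩ := surjective_up_to_refinements_of_epi pr s
    have h1 : ((Subobject.map ι).obj ((Subobject.pullback pr).obj (imageSubobject s))).Factors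
        (z ≫ ι) := by
      rw [factors_map_pullback_iff]
      exact ⟨z, rfl, (factors_imageSubobject_iff s _).2 ⟨π, hz⟩⟩
    rw [h, factors_map_pullback_iff] at h1
    obtain ⟨z', hz', hz''⟩ := h1
    rw [cancel_mono] at hz'
    subst hz'
    rw [factors_imageSubobject_iff] at hz''
    obtain ⟨t, ht⟩ := hz''
    have h2 : π ≫ s = t ≫ s' := by rw [hz, ht]
    have h3 : π = t := by
      have := h2 =≫ g
      simpa [hsg, hsg'] using this
    rw [← h3] at h2
    exact (cancel_epi π).1 h2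

end

end K824.NineDiag
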